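import Cfsg.Agent.H6.PG

set_option autoImplicit false
set_option maxRecDepth 100000
set_option Elab.async false

namespace Cfsg.H6.Ly.H

def R : List (List ℕ) := [[1,1,1,1,1,1,1,1], [3,3,3,3,3], [1,3,1,3,1,3,1,3], [2,2,4,1,1,3], [2,4,1,3,2,4,1,3,2,4,1,3], [19,6], [21,2,6,1], [23,4,6,3], [25,3,6,4], [27,22,20,21,19], [19,19,19,19,19], [27,27,27,27,27], [20,28,19,27], [22,28,21,27], [24,28,23,27], [26,28,25,27], [20,24,19,23,27,27], [20,26,19,25,28,28], [22,24,21,23,27], [22,26,21,25], [24,26,23,25,27], [2,21,1,19,19], [2,23,1,26,20,23,23], [2,25,1,26,20,26,23,21,20], [2,27,1,28,28], [4,21,3,25,19,25,24,22], [4,23,3,23,23,26,20,20], [4,27,3,28], [9,8,20,8,3,2,4,20,8,2,20,1,20,2,19,1,3,3], [9,9], [10,19,9,19,4,24,4], [10,23,9,1,25,19,22,2,4,4], [10,25,9,26,23,4,4], [10,27,9,25,20,23,20], [9,1,1,9,25,28,20,2,3,2,4,4,2], [10,3,9,25,25,23,20], [9,1,3,3,1,4,1,9,25,28,20,2,2], [9,21,9,22,9,21,26,1,23,1,1,1], [7,10,4,21,2,10,2,10,2,27,25,19,3,1,4,4,2],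 [7,7,2,2,2,2], [4,8,3,7], [8,1,7,2,2,2], [7,27,7,27,7,27,7,27,7,27], [7,27,7,28,7,27,2,2], [11,2], [13,3,2,4], [15,3,3,2,4,4], [17,4,4,2,3,3], [29,2,2], [31,8], [33,7], [35,4,6,1,4,4,5,8,5,1,6,2,5,4,4,1,3,1,4,4], [37,6,4,6,8,3,3,6,8,3,6,4,6,2,5,4,4,1,4,4,1,4,2], [39,7,5,4,1,5,1,7,5], [41,8,4], [43,3,7], [45,2,4,5,2,3,5,4,1,3,1], [47,4,6,4,1,6,2,3,3], [49,2,4,2,6,1,3,1], [51,4,2,3,6,4,1,3], [53,5,3,3,6,2,4,6,3,1,4,4], [55,1,1,1], [57,1,1,3,1,4], [59,1,3,3,2,4,4,2], [61,3,2,4,2,3,2,5,1,3,5,4,7,5,4,1,5,3,8,1], [63,7,3,6,1,6,2,6,8,5,5,1,4,5,4,6,1,3,3,2], [65,6,4,6,8,3,3,6,8,4,6,4,4,6,3,1,3,3,1,3,2,4], [67,3,1,4,2,4,4,2,4,5,3,3,5,3,7,5,4,4,7,5,3,5], [69,3,3,1,3,5,3,3,6,2,5,1,7,5,2,3,5,2,7,5,1], [71,3,2,3,3,2,3,5,3,1,4,7,5,3,1,4,7,5,1], [73,1,4,1,3,3,1,6,1,3,2,7,5,1,6,4,6,2,7], [75,4,1,3,1,3,6,2,6,1,6,7,5,4,6,1,5]]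

def X : List (List ℕ) := [[1], [3], [5], [7], [9], [11], [13], [15], [17], [19], [21], [23], [25], [27], [29], [31], [33], [35], [37], [39], [41], [43], [45], [47], [49], [51], [53], [55], [57], [59], [61], [63], [65], [67], [69], [71], [73], [75]]

/-- The presented group. -/
abbrev Grp : Type := PG 79987250069106366114654310938073778260718840495729940022662670150467856787915972558168942520128750014740085542125883644148830281510701610914542308452160860589049606347793962902086550016 R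

def ev : ℕ → Grp := pgEv 79987250069106366114654310938073778260718840495729940022662670150467856787915972558168942520128750014740085542125883644148830281510701610914542308452160860589049606347793962902086550016 R

theorem hev : Good ev 79987250069106366114654310938073778260718840495729940022662670150467856787915972558168942520128750014740085542125883644148830281510701610914542308452160860589049606347793962902086550016 := pg_good _ _

theorem hR : Rels ev R := pg_rels _ _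

theorem hX : gen ev X = ⊤ := pg_gen (m := 77) (by decide +kernel)

theorem lift {G : Type*} [Group G] {ev' : ℕ → G} (h : Good ev' 79987250069106366114654310938073778260718840495729940022662670150467856787915972558168942520128750014740085542125883644148830281510701610914542308452160860589049606347793962902086550016) (h' : Rels ev' R) :
    ∃ φ : Grp →* G, ∀ l, φ (ev l) = ev' l := pg_lift h h'

end Cfsg.H6.Ly.H
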