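import Cfsg.Agent.H6.Ly.H.Pres
import Cfsg.Agent.H6.Ly.H.Chk0
import Cfsg.Agent.H6.Ly.H.Chk1
import Cfsg.Agent.H6.Ly.H.Chk2
import Cfsg.Agent.H6.Ly.H.Chk3
import Cfsg.Agent.H6.Ly.H.Chk4
import Cfsg.Agent.H6.Ly.H.Chk5
import Cfsg.Agent.H6.Ly.H.Chk6
import Cfsg.Agent.H6.Ly.H.Chk7
import Cfsg.Agent.H6.Ly.H.Chk8
import Cfsg.Agent.H6.Ly.H.Chk9
import Cfsg.Agent.H6.Ly.H.Chk10
import Cfsg.Agent.H6.Ly.H.Chk11
import Cfsg.Agent.H6.Ly.H.Chk12

set_option autoImplicit false
set_option maxRecDepth 100000
set_option Elab.async false

namespace Cfsg.H6.Ly.H

theorem ptOK : PtOK img 19530 LS EQS := ptOK_of_chk fun p h1 h2 => by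
  rw [← ptU_eq]
  exact (range_join (range_join (range_join (range_join (range_join (allR_range p0 (by norm_num : 0 + 384 = 384)) (range_join (allR_range p1 (by norm_num : 384 + 384 = 768)) (allR_range p2 (by norm_num : 768 + 384 = 1152)))) (range_join (allR_range p3 (by norm_num : 1152 + 384 = 1536)) (range_join (allR_range p4 (by norm_num : 1536 + 384 = 1920)) (allR_range p5 (by norm_num : 1920 + 384 = 2304))))) (range_join (range_join (allR_range p6 (by norm_num : 2304 + 384 = 2688)) (range_join (allR_range p7 (by norm_num : 2688 + 384 = 3072)) (allR_range p8 (by norm_num : 3072 + 384 = 3456)))) (range_join (allR_range p9 (by norm_num : 3456 + 384 = 3840)) (range_join (allR_range p10 (by norm_num : 3840 + 384 = 4224)) (allR_range p11 (by norm_num : 4224 + 384 = 4608)))))) (range_join (range_join (range_join (allR_range p12 (by norm_num : 4608 + 384 = 4992)) (range_join (allR_range p13 (by norm_num : 4992 + 384 = 5376)) (allR_range p14 (by norm_num : 5376 + 384 = 5760)))) (range_join (allR_range p15 (by norm_num : 5760 + 384 = 6144)) (range_join (allR_range p16 (by norm_num : 6144 + 384 = 6528)) (allR_range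 p17 (by norm_num : 6528 + 384 = 6912))))) (range_join (range_join (allR_range p18 (by norm_num : 6912 + 384 = 7296)) (range_join (allR_range p19 (by norm_num : 7296 + 384 = 7680)) (allR_range p20 (by norm_num : 7680 + 384 = 8064)))) (range_join (range_join (allR_range p21 (by norm_num : 8064 + 384 = 8448)) (allR_range p22 (by norm_num : 8448 + 384 = 8832))) (range_join (allR_range p23 (by norm_num : 8832 + 384 = 9216)) (allR_range p24 (by norm_num : 9216 + 384 = 9600))))))) (range_join (range_join (range_join (range_join (allR_range p25 (by norm_num : 9600 + 384 = 9984)) (range_join (allR_range p26 (by norm_num : 9984 + 384 = 10368)) (allR_range p27 (by norm_num : 10368 + 384 = 10752)))) (range_join (allR_range p28 (by norm_num : 10752 + 384 = 11136)) (range_join (allR_range p29 (by norm_num : 11136 + 384 = 11520)) (allR_range p30 (by norm_num : 11520 + 384 = 11904))))) (range_join (range_join (allR_range p31 (by norm_num : 11904 + 384 = 12288)) (range_join (allR_range p32 (by norm_num : 12288 + 384 = 12672)) (allR_range p33 (by norm_num : 12672 + 384 = 13056)))) (range_join (range_join (allR_range p34 (by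 norm_num : 13056 + 384 = 13440)) (allR_range p35 (by norm_num : 13440 + 384 = 13824))) (range_join (allR_range p36 (by norm_num : 13824 + 384 = 14208)) (allR_range p37 (by norm_num : 14208 + 384 = 14592)))))) (range_join (range_join (range_join (allR_range p38 (by norm_num : 14592 + 384 = 14976)) (range_join (allR_range p39 (by norm_num : 14976 + 384 = 15360)) (allR_range p40 (by norm_num : 15360 + 384 = 15744)))) (range_join (allR_range p41 (by norm_num : 15744 + 384 = 16128)) (range_join (allR_range p42 (by norm_num : 16128 + 384 = 16512)) (allR_range p43 (by norm_num : 16512 + 384 = 16896))))) (range_join (range_join (allR_range p44 (by norm_num : 16896 + 384 = 17280)) (range_join (allR_range p45 (by norm_num : 17280 + 384 = 17664)) (allR_range p46 (by norm_num : 17664 + 384 = 18048)))) (range_join (range_join (allR_range p47 (by norm_num : 18048 + 384 = 18432)) (allR_range p48 (by norm_num : 18432 + 384 = 18816))) (range_join (allR_range p49 (by norm_num : 18816 + 384 = 19200)) (allR_range p50 (by norm_num : 19200 + 330 = 19530)))))))) p h1 h2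

theorem hrep : repOK 77 79987250069106366114654310938073778260718840495729940022662670150467856787915972558168942520128750014740085542125883644148830281510701610914542308452160860589049606347793962902086550016 LS EQS D Ly.H.R = true := by decide +kernel

theorem rep : Good (evR img 19530 77) 79987250069106366114654310938073778260718840495729940022662670150467856787915972558168942520128750014740085542125883644148830281510701610914542308452160860589049606347793962902086550016 ∧ Rels (evR img 19530 77) Ly.H.R ∧
    IsAct (MonoidHom.id _) (evR img 19530 77) img 19530 77 := rep_sound ptOK hrep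


end Cfsg.H6.Ly.H
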